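import Cfsg.Agent.H158.OZ.Par

/-!
# S4842, `PΩ⁺_8(q)`: criteria for elliptic elements (helper158)

`z ∈ E Q`, `π : E Q →* S` with kernel scalars. `ell1`, `ell2`, `ell3`, `ell4` : `π z` is elliptic for `J = {0,1,2}`, `{0,1,3}`,
`{0,1}`, `{0}`, in terms of polynomials annihilating the blocks and of the irreducibility on the isotropic block.
-/

set_option autoImplicit false
set_option linter.unusedSectionVars false
set_option linter.unusedSimpArgs false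

open Cfsg

namespace Cfsg.Agent.H158.OZ

open CoxeterSystem Cfsg.Agent.ChevalleyStructure.CoxeterGeom Cfsg.Agent.Tits.Roots
open Cfsg.Agent.Nodes Cfsg.Agent.Nodes.Comb Cfsg.Agent.Nodes.Reps Cfsg.Agent.Nodes.WittRoot Cfsg.Agent.Nodes.BNOf
open Cfsg.Agent.Nodes.RGDLib Cfsg.Agent.Nodes.WittAll Cfsg.Agent.Nodes.WittU Cfsg.Agent.Nodes.WittInst
open Cfsg.Agent.Nodes.StabComb Cfsg.Agent.Nodes.Bruhat Cfsg.Agent.Nodes.LeviDec
open Cfsg.Agent.Nodes.TypeC (wt ng ng_ng wt_apply)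
open Cfsg.Agent.Nodes.TypeD
open Cfsg.Agent.TitsThree Cfsg.Agent.TitsThree.Siegel Cfsg.Agent.TitsThree.WittFrame Cfsg.Agent.TitsThree.WittWeyl
  Cfsg.Agent.TitsThree.WBridge Cfsg.Agent.TitsThree.KSideO
open Cfsg.Agent.LieClassical Cfsg.Agent.LieClassical.OrthCore Cfsg.Agent.LieClassical.OrthTrans
open Cfsg.Agent.LieClassical.OrthForms QuadraticMap Polynomial
open Cfsg.Agent.H769.OZ (StE le_StE mem_StE_of_finite mem_StE)
open Cfsg.Agent.H985.VZ (Free Ell)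

section lin

variable {F : Type*} [Field F]

theorem coprime_zero {g g' : F[X]} (h : IsCoprime g g') {Z : Module.End F (V8 F)} {w : V8 F} (h1 : aeval Z g w = 0)
    (h2 : aeval Z g' w = 0) : w = 0 := by
  obtain ⟨a, b, hab⟩ := h
  have h3 := congrArg (fun q => aeval Z q w) hab
  simp only [map_add, map_mul, map_one, LinearMap.add_apply, Module.End.mul_apply, h1, h2, map_zero, add_zero,
    Module.End.one_apply] at h3
  exact h3.symm

/-- the projection to the coordinates in `Z` -/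
noncomputable def pr (Z : Set (Fin 4 × Bool)) : V8 F →ₗ[F] V8 F := by
  classical
  exact ∑ x, if x ∈ Z then (co x).smulRight (bb x) else 0

theorem co_pr (Z : Set (Fin 4 × Bool)) [DecidablePred (· ∈ Z)] (v : V8 F) (y : Fin 4 × Bool) :
    co y (pr Z v) = if y ∈ Z then co y v else 0 := by
  classical
  unfold pr
  rw [LinearMap.sum_apply, map_sum, Finset.sum_eq_single y]
  · by_cases hy : y ∈ Z
    · rw [if_pos hy, if_pos hy, LinearMap.smulRight_apply, map_smul, co_bb, if_pos rfl, smul_eq_mul, mul_one]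
    · rw [if_neg hy, if_neg hy, LinearMap.zero_apply, map_zero]
  · intro x _ hx
    by_cases hy : x ∈ Z
    · rw [if_pos hy, LinearMap.smulRight_apply, map_smul, co_bb, if_neg hx.symm, smul_zero]
    · rw [if_neg hy, LinearMap.zero_apply, map_zero]
  · intro h
    exact absurd (Finset.mem_univ y) h

theorem pr_mem (Z : Set (Fin 4 × Bool)) (v : V8 F) : pr Z v ∈ SZ Z := by
  classical
  intro x hx
  rw [co_pr, if_neg hx]

theorem pr_of_mem {Z : Set (Fin 4 × Bool)} {v : V8 F} (hv : v ∈ SZ Z) : pr Z v = v := by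
  classical
  apply co_ext
  intro x
  rw [co_pr]
  split_ifs with h
  · rfl
  · exact (hv x h).symm

theorem pr_of_mem_compl {Z : Set (Fin 4 × Bool)} {v : V8 F} (hv : v ∈ SZ Zᶜ) : pr Z v = 0 := by
  classical
  apply co_ext
  intro x
  rw [co_pr, map_zero]
  split_ifs with h
  · exact hv x fun h' => h' h
  · rfl

/-- the projection commutes with maps preserving the coordinates in `Z` and outside `Z` -/
theorem pr_comm {Z : Set (Fin 4 × Bool)} {g : Module.End F (V8 F)} (h1 : ∀ x ∈ Z, g (bb x) ∈ SZ Z)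
    (h2 : ∀ x, x ∉ Z → g (bb x) ∈ SZ Zᶜ) (v : V8 F) : pr Z (g v) = g (pr Z v) := by
  have h3 : v = pr Z v + (v - pr Z v) := by abel
  have h4 : v - pr Z v ∈ SZ Zᶜ := by
    classical
    intro x hx
    rw [map_sub, co_pr, if_pos (not_not.1 hx), sub_self]
  conv_lhs => rw [h3]
  rw [map_add, map_add, pr_of_mem (map_SZ h1 (pr_mem Z v)), pr_of_mem_compl (map_SZ (fun x hx => h2 x hx) h4), add_zero]

theorem commute_aeval {Z U : Module.End F (V8 F)} (h : Commute U Z) (q : F[X]) : Commute U (aeval Z q) := by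
  induction q using Polynomial.induction_on' with
  | add p q hp hq => rw [map_add]; exact hp.add_right hq
  | monomial n a =>
    rw [aeval_monomial]
    exact (Algebra.commute_algebraMap_right a U).mul_right (h.pow_right n)

theorem aeval_mem {Z : Module.End F (V8 F)} {D : Submodule F (V8 F)} (h : ∀ v ∈ D, Z v ∈ D) (q : F[X]) {v : V8 F}
    (hv : v ∈ D) : aeval Z q v ∈ D := by
  have hp : ∀ n : ℕ, ∀ w ∈ D, (Z ^ n) w ∈ D := by
    intro n
    induction n with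
    | zero => intro w hw; exact hw
    | succ n ih => intro w hw; rw [pow_succ]; exact ih _ (h w hw)
  induction q using Polynomial.induction_on' with
  | add p q hp hq => rw [map_add]; exact D.add_mem hp hq
  | monomial n a =>
    rw [aeval_monomial, Module.End.mul_apply, Module.algebraMap_end_apply]
    exact D.smul_mem _ (hp n v hv)

/-- elements commuting with `z` preserve the coarse blocks -/
theorem block_of_comm {z u : V8 F ≃ₗ[F] V8 F} (hzu : z * u = u * z) {γ : Fin 4 × Bool → ℕ}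
    (hz : ∀ x, z (bb x) ∈ SZ {y | γ y = γ x}) {g : ℕ → F[X]}
    (hg : ∀ x, aeval (z : Module.End F (V8 F)) (g (γ x)) (bb x) = 0)
    (hc : ∀ x y, γ x ≠ γ y → IsCoprime (g (γ x)) (g (γ y))) (x : Fin 4 × Bool) :
    u (bb x) ∈ SZ {y | γ y = γ x} := by
  classical
  intro y hy
  have hy' : γ x ≠ γ y := fun h => hy h.symm
  set Z : Set (Fin 4 × Bool) := {w | γ w = γ y} with hZ
  have hcm : Commute (u : Module.End F (V8 F)) (z : Module.End F (V8 F)) :=
    LinearMap.ext fun w => (congrArg (fun k : V8 F ≃ₗ[F] V8 F => k w) hzu).symm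
  have h1 : ∀ (q : F[X]) (v : V8 F), aeval (z : Module.End F (V8 F)) q (u v) =
      u (aeval (z : Module.End F (V8 F)) q v) := fun q v =>
    (congrArg (fun k : Module.End F (V8 F) => k v) (commute_aeval hcm q).eq).symm
  have hp : Commute (pr Z : Module.End F (V8 F)) (z : Module.End F (V8 F)) := by
    refine LinearMap.ext fun w => ?_
    refine pr_comm (g := (z : Module.End F (V8 F))) (fun w hw => ?_) (fun w hw => ?_) w
    · intro v hv
      exact hz w v fun h => hv (h.trans hw)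
    · intro v hv
      exact hz w v fun h => hw (by
        have h2 : γ v = γ y := not_not.1 hv
        exact h.symm.trans h2)
  set w := pr Z (u (bb x)) with hw
  have h2 : aeval (z : Module.End F (V8 F)) (g (γ x)) w = 0 := by
    have h3 := congrArg (fun k : Module.End F (V8 F) => k (u (bb x))) (commute_aeval hp (g (γ x))).eq
    change pr Z (aeval (z : Module.End F (V8 F)) (g (γ x)) (u (bb x))) = aeval (z : Module.End F (V8 F)) (g (γ x)) w at h3
    rw [← h3, h1, hg, map_zero, map_zero]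
  have h3 : aeval (z : Module.End F (V8 F)) (g (γ y)) w = 0 := by
    have h4 : ∀ v ∈ (SZ Z : Submodule F (V8 F)), aeval (z : Module.End F (V8 F)) (g (γ y)) v ∈ (⊥ : Submodule F (V8 F)) :=
      fun v hv => map_SZ (fun w hw => by
        rw [Submodule.mem_bot, ← hg w, show γ w = γ y from hw]) hv
    exact (Submodule.mem_bot F).1 (h4 w (pr_mem Z _))
  have h4 := coprime_zero (hc x y hy') h2 h3
  have h5 := co_pr Z (u (bb x)) y
  rw [← hw, h4, map_zero, if_pos (show y ∈ Z from rfl)] at h5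
  exact h5.symm

end lin

section crit

variable {F : Type*} [Field F] [Finite F] {S : Type*} [Group S] {π : E (Q8 F) →* S}
  {W : Type*} [Group W] {cs : CoxeterSystem (TypeD.M 2) W} {J : Set (Fin 4)} {r β : Fin 4 × Bool → ℕ} (D : Dt J r β)
  (hk : ∀ z : E (Q8 F), z ∈ π.ker → ∃ a : F, ∀ v, (z : V8 F ≃ₗ[F] V8 F) v = a • v)
  (hπ : Function.Surjective π) {z : E (Q8 F)}
  (hz : ∀ x, (z : V8 F ≃ₗ[F] V8 F) (bb x) ∈ SZ {y | β y = β x})

include hz

omit [Finite F] in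
theorem z_mem_block (k : ℕ) {v : V8 F} (hv : v ∈ SZ {x | β x = k}) :
    (z : V8 F ≃ₗ[F] V8 F) v ∈ SZ {x | β x = k} :=
  map_SZ (g := ((z : V8 F ≃ₗ[F] V8 F) : V8 F →ₗ[F] V8 F)) (fun x hx => by
    have h := hz x
    rwa [show β x = k from hx] at h) hv

include D hk hπ

/-- freeness: an element of the filtration group commuting with `z` is trivial -/
theorem free_of {p : ℕ} [Fact p.Prime] [CharP F p] (hDI : ∀ i, i ∉ J → ∀ x ∈ DI i, ∀ y, β y = β x → y ∈ DI i)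
    (h0 : ∃ x0, r x0 = 0)
    (hc : ∀ u : E (Q8 F), (u : V8 F ≃ₗ[F] V8 F) ∈ UF r → (z : V8 F ≃ₗ[F] V8 F) * u = u * z →
      (u : V8 F ≃ₗ[F] V8 F) = 1) : Free cs (isCartan 2) (TSS π) (XS π) J (π z) := by
  refine ⟨mem_LJ_of (p := p) D hk hπ (fun i hi v hv => ?_) (fun k v hv => z_mem_block hz k hv), fun v hv hvz => ?_⟩
  · refine map_SZ (g := ((z : V8 F ≃ₗ[F] V8 F) : V8 F →ₗ[F] V8 F)) (D := SZ (DI i)) (fun x hx => ?_) hv
    intro y hy
    exact hz x y fun h => hy (hDI i hi x hx y h)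
  · obtain ⟨u, hu, rfl⟩ := Subgroup.mem_map.1 (VJ_le_UF D hv)
    have hu' : (u : V8 F ≃ₗ[F] V8 F) ∈ UF r := hu
    obtain ⟨a, ha⟩ := hk ((z * u) * (u * z)⁻¹) (by
      rw [MonoidHom.mem_ker, map_mul, map_inv, map_mul, map_mul, hvz, mul_inv_cancel])
    have h1 : ∀ v, (z : V8 F ≃ₗ[F] V8 F) ((u : V8 F ≃ₗ[F] V8 F) v) =
        a • (u : V8 F ≃ₗ[F] V8 F) ((z : V8 F ≃ₗ[F] V8 F) v) := by
      intro v
      have h2 := ha ((u : V8 F ≃ₗ[F] V8 F) ((z : V8 F ≃ₗ[F] V8 F) v))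
      have h3 : (((z * u) * (u * z)⁻¹ : E (Q8 F)) : V8 F ≃ₗ[F] V8 F)
          ((u : V8 F ≃ₗ[F] V8 F) ((z : V8 F ≃ₗ[F] V8 F) v)) =
          (((z * u) * (u * z)⁻¹ * (u * z) : E (Q8 F)) : V8 F ≃ₗ[F] V8 F) v := rfl
      rw [h3, inv_mul_cancel_right] at h2
      exact h2
    have hfix : ∀ v ∈ (SZ {x | r x < 1} : Submodule F (V8 F)), (u : V8 F ≃ₗ[F] V8 F) v = v := by
      intro v hv
      have h2 := hu' 0 v hv
      have h3 : (u : V8 F ≃ₗ[F] V8 F) v - v = 0 := co_ext fun x => by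
        rw [map_zero]
        exact h2 x (Nat.not_lt_zero _)
      exact sub_eq_zero.1 h3
    obtain ⟨x0, hx0⟩ := h0
    have h2 : (u : V8 F ≃ₗ[F] V8 F) (bb x0) = bb x0 := hfix _ (bb_mem_SZ (by
      change r x0 < 1
      rw [hx0]
      exact one_pos))
    have h3 : (u : V8 F ≃ₗ[F] V8 F) ((z : V8 F ≃ₗ[F] V8 F) (bb x0)) = (z : V8 F ≃ₗ[F] V8 F) (bb x0) := by
      refine hfix _ fun y hy => hz x0 y fun h => hy ?_
      change r y < 1
      rw [D.blk y x0 h, hx0]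
      exact one_pos
    have h4 := h1 (bb x0)
    rw [h2, h3] at h4
    have hne : (z : V8 F ≃ₗ[F] V8 F) (bb x0) ≠ 0 := by
      intro h
      rw [LinearEquiv.map_eq_zero_iff] at h
      have h5 := co_bb (F := F) x0 x0
      rw [h, map_zero, if_pos rfl] at h5
      exact zero_ne_one h5
    have ha1 : a = 1 := by
      have h5 : (a - 1) • (z : V8 F ≃ₗ[F] V8 F) (bb x0) = 0 := by rw [sub_smul, one_smul, ← h4, sub_self]
      exact sub_eq_zero.1 ((smul_eq_zero.1 h5).resolve_right hne)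
    have h5 : (z : V8 F ≃ₗ[F] V8 F) * u = u * z := by
      apply LinearEquiv.ext
      intro v
      have h6 := h1 v
      rw [ha1, one_smul] at h6
      exact h6
    have h6 : u = 1 := Subtype.ext (hc u hu' h5)
    rw [h6, map_one]

/-- **ellipticity** -/
theorem ell_of {p : ℕ} [Fact p.Prime] [CharP F p] (hDI : ∀ i, i ∉ J → ∀ x ∈ DI i, ∀ y, β y = β x → y ∈ DI i)
    (h0 : ∃ x0, r x0 = 0)
    (hc : ∀ u : E (Q8 F), (u : V8 F ≃ₗ[F] V8 F) ∈ UF r → (z : V8 F ≃ₗ[F] V8 F) * u = u * z →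
      (u : V8 F ≃ₗ[F] V8 F) = 1)
    {ZJ : Set (Fin 4 × Bool)} (hZ : ∀ x, x ∈ ZJ ↔ ∀ j, j ∉ J → x ∈ DI j)
    (hi : ∀ i ∈ J, (∃ x ∈ ZJ, x ∈ DI i) ∧ ∃ y ∈ ZJ, y ∉ DI i)
    (hirr : ∀ D' : Submodule F (V8 F), D' ≤ SZ ZJ → (∀ v ∈ D', (z : V8 F ≃ₗ[F] V8 F) v ∈ D') →
      D' = ⊥ ∨ D' = SZ ZJ) : Ell cs (isCartan 2) (TSS π) (XS π) J (π z) := by
  refine ⟨free_of (p := p) D hk hπ hz hDI h0 hc, fun K hK l hl hmem => ?_⟩
  obtain ⟨hKJ, i, hiJ, hiK⟩ := Set.ssubset_iff_exists.1 hK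
  obtain ⟨l, rfl⟩ := hπ l
  have hstE : ∀ {z' : E (Q8 F)} {D' : Submodule F (V8 F)}, π z' ∈ PS π D' → (z' : V8 F ≃ₗ[F] V8 F) ∈ StE D' :=
    fun h => (mem_PS hk).1 h
  -- `l` preserves `SZ ZJ`
  have hl1 : ∀ j, j ∉ J → (l : V8 F ≃ₗ[F] V8 F) ∈ StE (SZ (DI j)) := fun j hj =>
    hstE (PJ_le_PS (cs := cs) hj (LJ_le_PJ hl))
  have hZe : (SZ ZJ : Submodule F (V8 F)) = ⨅ j : {j : Fin 4 // j ∉ J}, SZ (DI j.1) := by
    ext v
    rw [Submodule.mem_iInf]
    constructor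
    · intro hv j x hx
      exact hv x fun h => hx ((hZ x).1 h j.1 j.2)
    · intro hv x hx
      by_contra hne
      apply hx
      rw [hZ]
      intro j hj
      by_contra hxj
      exact hne (hv ⟨j, hj⟩ x hxj)
  have hl2 : ∀ v, (l : V8 F ≃ₗ[F] V8 F) v ∈ SZ ZJ ↔ v ∈ SZ ZJ := by
    intro v
    rw [hZe, Submodule.mem_iInf, Submodule.mem_iInf]
    exact forall_congr' fun j => hl1 j.1 j.2 v
  -- the conjugate preserves `SZ Zi`
  set Zi : Set (Fin 4 × Bool) := ZJ ∩ DI i with hZi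
  have hm : ∀ j, j ∉ K → (((l * z * l⁻¹ : E (Q8 F))) : V8 F ≃ₗ[F] V8 F) ∈ StE (SZ (DI j)) := fun j hj => by
    refine hstE (PJ_le_PS (cs := cs) hj ?_)
    rw [map_mul, map_mul, map_inv]
    exact hmem
  have hZie : (SZ Zi : Submodule F (V8 F)) = SZ ZJ ⊓ SZ (DI i) := (SZ_inf _ _).symm
  have hm2 : ∀ v, (((l * z * l⁻¹ : E (Q8 F))) : V8 F ≃ₗ[F] V8 F) v ∈ SZ Zi ↔ v ∈ SZ Zi := by
    intro v
    rw [hZie, Submodule.mem_inf, Submodule.mem_inf, hm i hiK v, hZe, Submodule.mem_iInf, Submodule.mem_iInf]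
    exact and_congr_left fun _ => forall_congr' fun j => hm j.1 (fun h => j.2 (hKJ h)) v
  have key : ∀ v, (((l * z * l⁻¹ : E (Q8 F))) : V8 F ≃ₗ[F] V8 F) ((l : V8 F ≃ₗ[F] V8 F) v) =
      (l : V8 F ≃ₗ[F] V8 F) ((z : V8 F ≃ₗ[F] V8 F) v) := by
    intro v
    have h1 : (((l * z * l⁻¹ : E (Q8 F))) : V8 F ≃ₗ[F] V8 F) ((l : V8 F ≃ₗ[F] V8 F) v) =
      (((l * z * l⁻¹ * l : E (Q8 F))) : V8 F ≃ₗ[F] V8 F) v := rfl
    rw [h1, inv_mul_cancel_right]
    rfl
  obtain ⟨⟨x, hxJ, hxi⟩, y, hyJ, hyi⟩ := hi i hiJ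
  have hsurj := (l : V8 F ≃ₗ[F] V8 F).surjective
  have hm3 : Submodule.comap ((l : V8 F ≃ₗ[F] V8 F) : V8 F →ₗ[F] V8 F) (SZ Zi) ≤ SZ ZJ := by
    intro v hv
    change (l : V8 F ≃ₗ[F] V8 F) v ∈ SZ Zi at hv
    rw [hZie] at hv
    exact (hl2 v).1 hv.1
  have hm4 : ∀ v ∈ Submodule.comap ((l : V8 F ≃ₗ[F] V8 F) : V8 F →ₗ[F] V8 F) (SZ Zi),
      (z : V8 F ≃ₗ[F] V8 F) v ∈ Submodule.comap ((l : V8 F ≃ₗ[F] V8 F) : V8 F →ₗ[F] V8 F) (SZ Zi) := by
    intro v hv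
    change (l : V8 F ≃ₗ[F] V8 F) ((z : V8 F ≃ₗ[F] V8 F) v) ∈ SZ Zi
    change (l : V8 F ≃ₗ[F] V8 F) v ∈ SZ Zi at hv
    rw [← key, hm2]
    exact hv
  rcases hirr _ hm3 hm4 with h1 | h1
  · obtain ⟨w, hw⟩ := hsurj (bb x)
    have h2 : w ∈ Submodule.comap ((l : V8 F ≃ₗ[F] V8 F) : V8 F →ₗ[F] V8 F) (SZ Zi) := by
      change (l : V8 F ≃ₗ[F] V8 F) w ∈ SZ Zi
      rw [hw]
      exact bb_mem_SZ ⟨hxJ, hxi⟩
    rw [h1, Submodule.mem_bot] at h2
    rw [h2, map_zero] at hw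
    have h5 := co_bb (F := F) x x
    rw [← hw, map_zero, if_pos rfl] at h5
    exact zero_ne_one h5
  · obtain ⟨w, hw⟩ := hsurj (bb y)
    have h2 : w ∈ (SZ ZJ : Submodule F (V8 F)) := by
      rw [← hl2, hw]
      exact bb_mem_SZ hyJ
    rw [← h1] at h2
    change (l : V8 F ≃ₗ[F] V8 F) w ∈ SZ Zi at h2
    rw [hw, bb_mem_SZ_iff] at h2
    exact hyi h2.2

end crit

end Cfsg.Agent.H158.OZ
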