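import Cfsg.Agent.H158.OZ.Fr

/-!
# S4842, `PΩ⁺_8(q)`: parabolic and Levi subgroups of `RS` in terms of subspaces (helper158)
-/

set_option autoImplicit false
set_option linter.unusedSectionVars false
set_option linter.unusedSimpArgs false

open Cfsg

namespace Cfsg.Agent.H158.OZ

open CoxeterSystem Cfsg.Agent.ChevalleyStructure.CoxeterGeom Cfsg.Agent.Tits.Roots
open Cfsg.Agent.Nodes Cfsg.Agent.Nodes.Comb Cfsg.Agent.Nodes.Reps Cfsg.Agent.Nodes.WittRoot Cfsg.Agent.Nodes.BNOf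
open Cfsg.Agent.Nodes.RGDLib Cfsg.Agent.Nodes.WittAll Cfsg.Agent.Nodes.WittU Cfsg.Agent.Nodes.WittInst
open Cfsg.Agent.Nodes.StabComb Cfsg.Agent.Nodes.Bruhat Cfsg.Agent.Nodes.LeviDec
open Cfsg.Agent.Nodes.TypeC (wt ng ng_ng wt_apply)
open Cfsg.Agent.Nodes.TypeD
open Cfsg.Agent.TitsThree Cfsg.Agent.TitsThree.Siegel Cfsg.Agent.TitsThree.WittFrame Cfsg.Agent.TitsThree.WittWeyl
  Cfsg.Agent.TitsThree.WBridge Cfsg.Agent.TitsThree.KSideO
open Cfsg.Agent.LieClassical Cfsg.Agent.LieClassical.OrthCore Cfsg.Agent.LieClassical.OrthTrans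
open Cfsg.Agent.LieClassical.OrthForms QuadraticMap
open Cfsg.Agent.H769.OZ (StE le_StE mem_StE_of_finite mem_StE)

/-! ### Doubled root coordinates -/

/-- the `ε`-coordinates of a signed index -/
def wz (x : Fin 4 × Bool) (k : Fin 4) : ℤ := if k = x.1 then (if x.2 then 1 else -1) else 0

/-- twice the coordinates of the root `wt a + wt c` -/
def dx (a c : Fin 4 × Bool) (k : Fin 4) : ℤ :=
  match k with
  | 0 => 2 * (wz a 0 + wz c 0)
  | 1 => 2 * (wz a 0 + wz c 0 + (wz a 1 + wz c 1))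
  | 2 => wz a 0 + wz c 0 + (wz a 1 + wz c 1) + (wz a 2 + wz c 2) - (wz a 3 + wz c 3)
  | 3 => wz a 0 + wz c 0 + (wz a 1 + wz c 1) + (wz a 2 + wz c 2) + (wz a 3 + wz c 3)

theorem two_mul_eq {x : Fin 4 → ℤ} {a c : Fin 4 × Bool} (e : TypeD.ee (n := 2) x = wt a + wt c) (k : Fin 4) :
    2 * x k = dx a c k := by
  have h : ∀ k : Fin 4, TypeD.ee (n := 2) x k = wz a k + wz c k := by
    intro k
    rw [e]
    change wt a k + wt c k = _
    rw [wt_apply, wt_apply]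
    rfl
  have h0 : TypeD.ee (n := 2) x 0 = x 0 := by
    simp [TypeD.ee, Finset.sum_apply, Fin.sum_univ_four, bt_apply]
  have h1 : TypeD.ee (n := 2) x 1 = x 1 - x 0 := by
    simp [TypeD.ee, Finset.sum_apply, Fin.sum_univ_four, bt_apply]
    ring
  have h2 : TypeD.ee (n := 2) x 2 = x 2 + x 3 - x 1 := by
    simp [TypeD.ee, Finset.sum_apply, Fin.sum_univ_four, bt_apply]
    ring
  have h3 : TypeD.ee (n := 2) x 3 = x 3 - x 2 := by
    simp [TypeD.ee, Finset.sum_apply, Fin.sum_univ_four, bt_apply]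
    ring
  have e0 := h 0
  have e1 := h 1
  have e2 := h 2
  have e3 := h 3
  rw [h0] at e0
  rw [h1] at e1
  rw [h2] at e2
  rw [h3] at e3
  fin_cases k
  · change 2 * x 0 = 2 * (wz a 0 + wz c 0)
    omega
  · change 2 * x 1 = 2 * (wz a 0 + wz c 0 + (wz a 1 + wz c 1))
    omega
  · change 2 * x 2 = wz a 0 + wz c 0 + (wz a 1 + wz c 1) + (wz a 2 + wz c 2) - (wz a 3 + wz c 3)
    omega
  · change 2 * x 3 = wz a 0 + wz c 0 + (wz a 1 + wz c 1) + (wz a 2 + wz c 2) + (wz a 3 + wz c 3)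
    omega

/-- the isotropic subspaces stabilised by the maximal parabolic subgroups -/
def DB (i : Fin 4) (x : Fin 4 × Bool) : Bool :=
  match i with
  | 0 => x.2 && decide (x.1 = 0)
  | 1 => x.2 && decide (x.1 ≤ 1)
  | 2 => (x.2 && decide (x.1 ≤ 2)) || (!x.2 && decide (x.1 = 3))
  | 3 => x.2

/-- the index sets -/
def DI (i : Fin 4) : Set (Fin 4 × Bool) := {x | DB i x = true}

theorem db1 : ∀ a c : Fin 4 × Bool, a.1 ≠ c.1 → ∀ i, 0 ≤ dx a c i →
    (DB i (ng c) = true → DB i a = true) ∧ (DB i (ng a) = true → DB i c = true) := by decide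

theorem db2 : ∀ i j : Fin 4, j ≠ i → ∀ x : Fin 4 × Bool, DB i x = true → DB i (TypeD.sg (n := 2) j x) = true := by
  decide

theorem db3 : ∀ i : Fin 4, ∃ x : Fin 4 × Bool, DB i x = true ∧ DB i (TypeD.sg (n := 2) i x) = false := by
  decide

section par

variable {F : Type*} [Field F] [Finite F] {S : Type*} [Group S] {π : E (Q8 F) →* S}
  {W : Type*} [Group W] {cs : CoxeterSystem (TypeD.M 2) W}

/-- the root groups in the stabilisers -/
theorem XS_le_PS {x : Fin 4 → ℤ} (hx : IsRoot cs (isCartan 2) x) {i : Fin 4} (h0 : 0 ≤ x i) :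
    XS π x ≤ PS π (SZ (DI i)) := by
  obtain ⟨a, c, hac, e⟩ := exists_of_isRoot cs hx
  intro s hs
  obtain ⟨t, hm, rfl⟩ := (mem_XS hac e).1 hs
  have h1 := db1 a c hac i (by rw [← two_mul_eq e]; omega)
  exact Subgroup.mem_map.2 ⟨⟨_, hm⟩, mem_StE_of_finite fun v hv => X8_mem_StE hac h1.1 h1.2 t hv, rfl⟩

theorem PJ_le_PS {K : Set (Fin 4)} {i : Fin 4} (hi : i ∉ K) :
    PJ cs (isCartan 2) (TSS π) (XS π) K ≤ PS π (SZ (DI i)) := by
  refine sup_le (sup_le (TSS_le_PS _) ?_) ?_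
  · exact RGD.Sup_le fun x hx => XS_le_PS hx.1 (hx.2 i hi).ge
  · exact RGD.Sup_le fun x hx => XS_le_PS hx.1 (hx.2.1 i)

variable (hk : ∀ z : E (Q8 F), z ∈ π.ker → ∃ a : F, ∀ v, (z : V8 F ≃ₗ[F] V8 F) v = a • v)

include hk

theorem ker_le : π.ker ≤ Subgroup.center (E (Q8 F)) := by
  intro z hz
  obtain ⟨a, ha⟩ := hk z hz
  rw [Subgroup.mem_center_iff]
  intro g
  apply Subtype.ext
  apply LinearEquiv.ext
  intro v
  change (g : V8 F ≃ₗ[F] V8 F) ((z : V8 F ≃ₗ[F] V8 F) v) = (z : V8 F ≃ₗ[F] V8 F) ((g : V8 F ≃ₗ[F] V8 F) v)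
  rw [ha, ha, map_smul]

theorem nS_mem_PS {i j : Fin 4} : nS π j ∈ PS π (SZ (DI i)) ↔ j ≠ i := by
  constructor
  · rintro h rfl
    have h1 := (mem_PS hk).1 h
    obtain ⟨x, hx, hx'⟩ := db3 j
    have h2 := (h1 (bb x)).2 (bb_mem_SZ hx)
    obtain ⟨l, hl, e⟩ := WittRGDD.mono_nn (Fr := F8 F) j x
    rw [show (WittRGDD.nn (F8 F) j) (bb x) = l • bb (TypeD.sg (n := 2) j x) from e] at h2
    rw [Submodule.smul_mem_iff _ hl, bb_mem_SZ_iff] at h2
    rw [show DB j (TypeD.sg (n := 2) j x) = true from h2] at hx'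
    exact absurd hx' (by decide)
  · intro h
    exact Subgroup.mem_map.2 ⟨⟨_, WittRGDD.nn_mem (amb_plus 4) j⟩, mem_StE_of_finite fun v hv =>
      mono_StE (WittRGDD.mono_nn (Fr := F8 F) j) (fun x hx => db2 i j h x hx) hv, rfl⟩

/-- **the parabolic subgroups** -/
theorem mem_PJ_iff (hπ : Function.Surjective π) {p : ℕ} [Fact p.Prime] [CharP F p] {J : Set (Fin 4)} {s : S} :
    s ∈ PJ cs (isCartan 2) (TSS π) (XS π) J ↔ ∀ i, i ∉ J → s ∈ PS π (SZ (DI i)) := by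
  classical
  refine ⟨fun h i hi => PJ_le_PS hi h, fun h => ?_⟩
  have : Finite W := finite_W cs
  have : Finite (V8 F ≃ₗ[F] V8 F) :=
    Finite.of_injective (fun g : V8 F ≃ₗ[F] V8 F => (g : V8 F → V8 F)) DFunLike.coe_injective
  have : Finite S := Finite.of_surjective _ hπ
  have R := RS (p := p) (ker_le hk) cs
  let P : Subgroup S := ⨅ i : {i : Fin 4 // i ∉ J}, PS π (SZ (DI i.1))
  have hB : RGD.B cs (isCartan 2) (TSS π) (XS π) ≤ P := by
    refine le_iInf fun i => ?_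
    exact le_trans B_le_PJ (PJ_le_PS i.2)
  have h1 := inf_eq_PJ R hB
  rw [GGS hπ cs, inf_top_eq] at h1
  have h2 : {i | nS π i ∈ P} = J := by
    ext j
    change nS π j ∈ P ↔ _
    rw [Subgroup.mem_iInf]
    constructor
    · intro h3
      by_contra hj
      exact (nS_mem_PS hk).1 (h3 ⟨j, hj⟩) rfl
    · rintro hj ⟨i, hi⟩
      exact (nS_mem_PS hk).2 fun h3 => hi ((show j = i from h3) ▸ hj)
  rw [h2] at h1
  rw [← h1, Subgroup.mem_iInf]
  exact fun i => h i.1 i.2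

end par

/-! ### The four types of Levi subgroups -/

/-- combinatorial data: `r` the rank function, `β` the blocks -/
structure Dt (J : Set (Fin 4)) (r β : Fin 4 × Bool → ℕ) : Prop where
  not : ∀ a c : Fin 4 × Bool, a.1 ≠ c.1 → (∀ k, 0 ≤ dx a c k) → (∃ k, k ∉ J ∧ 0 < dx a c k) →
    r a < r (ng c) ∧ r c < r (ng a)
  lev : ∀ a c : Fin 4 × Bool, a.1 ≠ c.1 → (∀ k, k ∉ J → dx a c k = 0) → β a = β (ng c) ∧ β c = β (ng a)
  blk : ∀ a c : Fin 4 × Bool, β a = β c → r a = r c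

/-- `{0,1,2}` -/
def r1 (x : Fin 4 × Bool) : ℕ := if x.2 then 0 else 1

theorem dt1 : Dt {0, 1, 2} r1 r1 where
  not := by
    have h : ∀ a c : Fin 4 × Bool, a.1 ≠ c.1 → (∀ k, 0 ≤ dx a c k) → (0 < dx a c 3) →
        r1 a < r1 (ng c) ∧ r1 c < r1 (ng a) := by decide
    rintro a c hac h0 ⟨k, hk, hk0⟩
    have : k = 3 := by
      revert hk
      fin_cases k <;> simp
    subst this
    exact h a c hac h0 hk0
  lev := by
    have h : ∀ a c : Fin 4 × Bool, a.1 ≠ c.1 → dx a c 3 = 0 → r1 a = r1 (ng c) ∧ r1 c = r1 (ng a) := by decide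
    intro a c hac h0
    exact h a c hac (h0 3 (by simp))
  blk := fun _ _ h => h

/-- `{0,1,3}` -/
def r2 (x : Fin 4 × Bool) : ℕ := if DB 2 x then 0 else 1

theorem dt2 : Dt {0, 1, 3} r2 r2 where
  not := by
    have h : ∀ a c : Fin 4 × Bool, a.1 ≠ c.1 → (∀ k, 0 ≤ dx a c k) → (0 < dx a c 2) →
        r2 a < r2 (ng c) ∧ r2 c < r2 (ng a) := by decide
    rintro a c hac h0 ⟨k, hk, hk0⟩
    have : k = 2 := by
      revert hk
      fin_cases k <;> simp
    subst this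
    exact h a c hac h0 hk0
  lev := by
    have h : ∀ a c : Fin 4 × Bool, a.1 ≠ c.1 → dx a c 2 = 0 → r2 a = r2 (ng c) ∧ r2 c = r2 (ng a) := by decide
    intro a c hac h0
    exact h a c hac (h0 2 (by simp))
  blk := fun _ _ h => h

/-- `{0,1}` : ranks -/
def r3 (x : Fin 4 × Bool) : ℕ := if x.1 = 3 then 1 else if x.2 then 0 else 2

/-- `{0,1}` : blocks -/
def b3 (x : Fin 4 × Bool) : ℕ := if x.1 = 3 then (if x.2 then 1 else 3) else if x.2 then 0 else 2

theorem dt3 : Dt {0, 1} r3 b3 where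
  not := by
    have h : ∀ a c : Fin 4 × Bool, a.1 ≠ c.1 → (∀ k, 0 ≤ dx a c k) → (0 < dx a c 2 ∨ 0 < dx a c 3) →
        r3 a < r3 (ng c) ∧ r3 c < r3 (ng a) := by decide
    rintro a c hac h0 ⟨k, hk, hk0⟩
    have : k = 2 ∨ k = 3 := by
      revert hk
      fin_cases k <;> simp
    rcases this with rfl | rfl
    · exact h a c hac h0 (Or.inl hk0)
    · exact h a c hac h0 (Or.inr hk0)
  lev := by
    have h : ∀ a c : Fin 4 × Bool, a.1 ≠ c.1 → dx a c 2 = 0 → dx a c 3 = 0 →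
        b3 a = b3 (ng c) ∧ b3 c = b3 (ng a) := by decide
    intro a c hac h0
    exact h a c hac (h0 2 (by simp)) (h0 3 (by simp))
  blk := by decide

/-- `{0}` : ranks -/
def r4 (x : Fin 4 × Bool) : ℕ := if x.1 = 3 then 2 else if x.1 = 2 then (if x.2 then 1 else 3) else if x.2 then 0 else 4

/-- `{0}` : blocks -/
def b4 (x : Fin 4 × Bool) : ℕ := if x = (3, false) then 5 else r4 x

theorem dt4 : Dt {0} r4 b4 where
  not := by
    have h : ∀ a c : Fin 4 × Bool, a.1 ≠ c.1 → (∀ k, 0 ≤ dx a c k) → (0 < dx a c 1 ∨ 0 < dx a c 2 ∨ 0 < dx a c 3) →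
        r4 a < r4 (ng c) ∧ r4 c < r4 (ng a) := by decide
    rintro a c hac h0 ⟨k, hk, hk0⟩
    have : k = 1 ∨ k = 2 ∨ k = 3 := by
      revert hk
      fin_cases k <;> simp
    rcases this with rfl | rfl | rfl
    · exact h a c hac h0 (Or.inl hk0)
    · exact h a c hac h0 (Or.inr (Or.inl hk0))
    · exact h a c hac h0 (Or.inr (Or.inr hk0))
  lev := by
    have h : ∀ a c : Fin 4 × Bool, a.1 ≠ c.1 → dx a c 1 = 0 → dx a c 2 = 0 → dx a c 3 = 0 →
        b4 a = b4 (ng c) ∧ b4 c = b4 (ng a) := by decide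
    intro a c hac h0
    exact h a c hac (h0 1 (by simp)) (h0 2 (by simp)) (h0 3 (by simp))
  blk := by decide

section levi

variable {F : Type*} [Field F] [Finite F] {S : Type*} [Group S] {π : E (Q8 F) →* S}
  {W : Type*} [Group W] {cs : CoxeterSystem (TypeD.M 2) W} {J : Set (Fin 4)} {r β : Fin 4 × Bool → ℕ} (D : Dt J r β)

include D

theorem VJ_le_UF : VJ cs (isCartan 2) (XS π) J ≤ ((UF r).subgroupOf (E (Q8 F))).map π := by
  refine RGD.Sup_le fun x hx s hs => ?_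
  obtain ⟨a, c, hac, e⟩ := exists_of_isRoot cs hx.1
  obtain ⟨t, hm, rfl⟩ := (mem_XS hac e).1 hs
  obtain ⟨k, hk, hk0⟩ := hx.2.2
  have h1 := D.not a c hac (fun k => by
    rw [← two_mul_eq e]
    have := hx.2.1 k
    simp only [Pi.zero_apply] at this
    omega) ⟨k, hk, by rw [← two_mul_eq e]; omega⟩
  exact Subgroup.mem_map.2 ⟨⟨_, hm⟩, X8_mem_UF hac h1.1 h1.2 t, rfl⟩

theorem LJ_le_block (k : ℕ) : LJ cs (isCartan 2) (TSS π) (XS π) J ≤ PS π (SZ {x | β x = k}) := by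
  refine sup_le (TSS_le_PS _) (RGD.Sup_le fun x hx s hs => ?_)
  obtain ⟨a, c, hac, e⟩ := exists_of_isRoot cs hx.1
  obtain ⟨t, hm, rfl⟩ := (mem_XS hac e).1 hs
  have h1 := D.lev a c hac fun k hk => by rw [← two_mul_eq e, hx.2 k hk, mul_zero]
  refine Subgroup.mem_map.2 ⟨⟨_, hm⟩, mem_StE_of_finite fun v hv => X8_mem_StE hac ?_ ?_ t hv, rfl⟩
  · intro h2
    change β a = k
    rw [h1.1]
    exact h2
  · intro h2
    change β c = k
    rw [h1.2]
    exact h2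

omit D [Finite F] in
/-- an element of the filtration group preserving the blocks is trivial -/
theorem eq_one_of_blocks (hb : ∀ a c : Fin 4 × Bool, β a = β c → r a = r c) {u : V8 F ≃ₗ[F] V8 F} (hu : u ∈ UF r)
    (h : ∀ x, u (bb x) ∈ SZ {y | β y = β x}) : u = 1 := by
  apply ext_bb
  intro x
  change u (bb x) = bb x
  rw [← sub_eq_zero]
  apply co_ext
  intro y
  rw [map_zero]
  by_cases hy : β y = β x
  · exact UF_bb hu x y (by
      change ¬ r y < r x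
      rw [hb _ _ hy]
      exact lt_irrefl _)
  · have h1 : u (bb x) - bb x ∈ SZ {y | β y = β x} :=
      Submodule.sub_mem _ (h x) (bb_mem_SZ (show β x = β x from rfl))
    exact h1 y hy

variable (hk : ∀ z : E (Q8 F), z ∈ π.ker → ∃ a : F, ∀ v, (z : V8 F ≃ₗ[F] V8 F) v = a • v)

include hk

/-- **the Levi subgroups** -/
theorem mem_LJ_of (hπ : Function.Surjective π) {p : ℕ} [Fact p.Prime] [CharP F p] {z : E (Q8 F)}
    (h1 : ∀ i, i ∉ J → ∀ v ∈ SZ (DI i), (z : V8 F ≃ₗ[F] V8 F) v ∈ SZ (DI i))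
    (h2 : ∀ k, ∀ v ∈ SZ {x | β x = k}, (z : V8 F ≃ₗ[F] V8 F) v ∈ SZ {x | β x = k}) :
    π z ∈ LJ cs (isCartan 2) (TSS π) (XS π) J := by
  have : Finite (V8 F ≃ₗ[F] V8 F) :=
    Finite.of_injective (fun g : V8 F ≃ₗ[F] V8 F => (g : V8 F → V8 F)) DFunLike.coe_injective
  have : Finite S := Finite.of_surjective _ hπ
  have R := RS (p := p) (ker_le hk) cs
  have h3 : π z ∈ PJ cs (isCartan 2) (TSS π) (XS π) J := (mem_PJ_iff (p := p) hk hπ).2 fun i hi =>
    Subgroup.mem_map.2 ⟨z, mem_StE_of_finite (h1 i hi), rfl⟩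
  obtain ⟨l, hl, v, hv, e⟩ := (mem_PJ R).1 h3
  obtain ⟨u, hu, rfl⟩ := Subgroup.mem_map.1 (VJ_le_UF D hv)
  have hu1 : (u : V8 F ≃ₗ[F] V8 F) = 1 := by
    refine eq_one_of_blocks D.blk hu fun x => ?_
    have h4 : π u ∈ PS π (SZ {y | β y = β x}) := by
      have h5 : π u = l⁻¹ * π z := by rw [e]; group
      rw [h5]
      exact mul_mem (inv_mem (LJ_le_block D _ hl))
        (Subgroup.mem_map.2 ⟨z, mem_StE_of_finite (h2 _), rfl⟩)
    exact ((mem_PS hk).1 h4 _).2 (bb_mem_SZ (show β x = β x from rfl))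
  have hu2 : u = 1 := Subtype.ext hu1
  rw [e, hu2, map_one, mul_one]
  exact hl

end levi

end Cfsg.Agent.H158.OZ
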